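import Cfsg.Agent.H317.PQ.Defs
import Cfsg.Agent.H133.PB.RegSum
import Cfsg.Agent.Blocks.ExistsModular
import Cfsg.Agent.S0952

/-!
# S4612, A5: linear characters of `p`-power order (helper809)

* `mem_principal_of_sum` : a character with nonzero sum over the `p`-regular elements lies in the principal `p`-block;
* `sum_reg` : the sum of an induced character over the regular elements;
* `linear_test`.
-/

set_option autoImplicit false

open Cfsg

namespace Cfsg.Agent.H809.PQ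

open Cfsg.Agent.H317.PQ Cfsg.Agent.Blocks.Basic Cfsg.Agent.Blocks.Local Cfsg.Agent.Characters.Core
open scoped ComplexConjugate

universe u

variable {p q : ℕ} {G : Type u} [Group G]

/-- a character with nonzero sum over the `p`-regular elements lies in the principal `p`-block -/
theorem mem_principal_of_sum [Fintype G] (hp : p.Prime) {M : Ideal AlgInt} (hM : IsPModular p M) (χ : IrrCharacter G)
    (h : ∑ g : G with ¬ p ∣ orderOf g, (χ : G → ℂ) g ≠ 0) : χ ∈ principalBlock M G := by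
  have : Fact p.Prime := ⟨hp⟩
  by_contra hχ
  apply h
  have h1 := S0952.result p M hM ⟨_, isIrrCharacter_one⟩ χ hχ
  rw [finsum_mem_eq_finite_toFinset_sum _ (Set.toFinite _)] at h1
  have h2 : ∑ g : G with ¬ p ∣ orderOf g, conj ((χ : G → ℂ) g) = 0 := by
    rw [← h1]
    refine Finset.sum_congr ?_ fun g _ => ?_
    · ext g
      simp
    · simp
  have h3 := congrArg conj h2
  rw [map_sum, map_zero] at h3
  rw [← h3]
  refine Finset.sum_congr rfl fun g _ => ?_
  rw [Complex.conj_conj]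

/-- the sum of an induced character over the `r`-regular elements -/
theorem sum_reg [Fintype G] (H : Subgroup G) [Fintype H] (θ : ↥H →* ℂˣ) (χ : G → ℂ)
    (hχ : ∀ g : G, χ g = (Nat.card H : ℂ)⁻¹ * ∑ᶠ x : {x : G // x⁻¹ * g * x ∈ H}, ((θ ⟨_, x.2⟩ : ℂˣ) : ℂ)) (r : ℕ) :
    ∑ g : G with ¬ r ∣ orderOf g, χ g =
      (Nat.card H : ℂ)⁻¹ * ((Fintype.card G : ℂ) * ∑ h : H with ¬ r ∣ orderOf h, ((θ h : ℂˣ) : ℂ)) := by
  classical
  set F : G → ℂ := fun y => if hy : y ∈ H then ((θ ⟨y, hy⟩ : ℂˣ) : ℂ) else 0 with hF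
  have e1 : ∀ g : G, χ g = (Nat.card H : ℂ)⁻¹ * ∑ x : G, F (x⁻¹ * g * x) := by
    intro g
    rw [hχ g, finsum_eq_sum_of_fintype]
    congr 1
    rw [← Finset.sum_filter_add_sum_filter_not Finset.univ (fun x : G => x⁻¹ * g * x ∈ H)]
    have h0 : ∑ x : G with ¬ x⁻¹ * g * x ∈ H, F (x⁻¹ * g * x) = 0 := by
      refine Finset.sum_eq_zero fun x hx => ?_
      simp only [Finset.mem_filter, Finset.mem_univ, true_and] at hx
      simp only [hF]
      rw [dif_neg hx]
    rw [h0, add_zero]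
    rw [Finset.sum_subtype (Finset.univ.filter fun x : G => x⁻¹ * g * x ∈ H) (p := fun x : G => x⁻¹ * g * x ∈ H)
      (fun x => by simp) (fun x => F (x⁻¹ * g * x))]
    refine Finset.sum_congr rfl fun x _ => ?_
    simp only [hF]
    rw [dif_pos x.2]
  have e2 : ∑ g : G with ¬ r ∣ orderOf g, χ g = (Nat.card H : ℂ)⁻¹ *
      ∑ x : G, ∑ g : G with ¬ r ∣ orderOf g, F (x⁻¹ * g * x) := by
    rw [Finset.sum_comm, Finset.mul_sum]
    exact Finset.sum_congr rfl fun g _ => e1 g
  have e3 : ∀ x : G, ∑ g : G with ¬ r ∣ orderOf g, F (x⁻¹ * g * x) = ∑ h : H with ¬ r ∣ orderOf h, ((θ h : ℂˣ) : ℂ) := by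
    intro x
    have e4 : ∑ g : G with ¬ r ∣ orderOf g, F (x⁻¹ * g * x) = ∑ k : G with ¬ r ∣ orderOf k, F k := by
      refine Finset.sum_equiv (MulAut.conj x⁻¹).toEquiv (fun g => ?_) (fun g _ => ?_)
      · simp only [Finset.mem_filter, Finset.mem_univ, true_and]
        have : orderOf ((MulAut.conj x⁻¹) g) = orderOf g := (MulAut.conj x⁻¹).orderOf_eq g
        rw [show (MulAut.conj x⁻¹).toEquiv g = (MulAut.conj x⁻¹) g from rfl, this]
      · show F (x⁻¹ * g * x) = F (x⁻¹ * g * x⁻¹⁻¹)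
        rw [inv_inv]
    rw [e4, ← Finset.sum_filter_add_sum_filter_not (Finset.univ.filter fun k : G => ¬ r ∣ orderOf k) (fun k => k ∈ H)]
    have h0 : ∑ k ∈ Finset.univ.filter (fun k : G => ¬ r ∣ orderOf k) with ¬ k ∈ H, F k = 0 := by
      refine Finset.sum_eq_zero fun x hx => ?_
      simp only [Finset.mem_filter, Finset.mem_univ, true_and] at hx
      simp only [hF]
      rw [dif_neg hx.2]
    rw [h0, add_zero]
    symm
    refine Finset.sum_bij (fun h _ => (h : G)) (fun h hh => ?_) (fun a _ b _ hab => Subtype.ext hab) (fun k hk => ?_)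
      (fun h _ => ?_)
    · simp only [Finset.mem_filter, Finset.mem_univ, true_and] at hh ⊢
      rw [Subgroup.orderOf_coe]
      exact ⟨hh, h.2⟩
    · simp only [Finset.mem_filter, Finset.mem_univ, true_and] at hk
      refine ⟨⟨k, hk.2⟩, ?_, rfl⟩
      simp only [Finset.mem_filter, Finset.mem_univ, true_and]
      rw [← Subgroup.orderOf_coe]
      exact hk.1
    · simp only [hF]
      rw [dif_pos h.2]
  rw [e2, Finset.sum_congr rfl fun x _ => e3 x, Finset.sum_const, Finset.card_univ, nsmul_eq_mul]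

/-- `Ind θ` irreducible, `θ` linear of `p`-power order: in the principal `p`-block; and not in the principal `q`-block
if translation by some `z` with `θ z ≠ 1` preserves the `q`-regular elements of `H` -/
theorem linear_test [Fintype G] (hp : p.Prime) (hq : q.Prime) (H : Subgroup G) (θ : ↥H →* ℂˣ)
    (hθ : ∀ h, ∃ k : ℕ, θ h ^ p ^ k = 1) (χ : IrrCharacter G)
    (hχ : ∀ g : G, (χ : G → ℂ) g = (Nat.card H : ℂ)⁻¹ * ∑ᶠ x : {x : G // x⁻¹ * g * x ∈ H}, ((θ ⟨_, x.2⟩ : ℂˣ) : ℂ))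
    (z : ↥H) (hz : θ z ≠ 1) (hzq : ∀ h : ↥H, q ∣ orderOf (h * z) ↔ q ∣ orderOf h) : ¬ Same p q G := by
  classical
  have := Fintype.ofFinite H
  intro hS
  have hHc : (Nat.card H : ℂ)⁻¹ ≠ 0 := inv_ne_zero (by exact_mod_cast Nat.card_pos.ne')
  have hGc : (Fintype.card G : ℂ) ≠ 0 := by exact_mod_cast Fintype.card_ne_zero
  -- in the principal `p`-block
  have hmem : χ ∈ B0 p G := by
    intro M hM
    refine mem_principal_of_sum hp hM χ ?_
    rw [sum_reg H θ χ hχ p]
    refine mul_ne_zero hHc (mul_ne_zero hGc ?_)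
    have h1 : ∑ h : H with ¬ p ∣ orderOf h, ((θ h : ℂˣ) : ℂ) = ∑ h : H with ¬ p ∣ orderOf h, (1 : ℂ) := by
      refine Finset.sum_congr rfl fun h hh => ?_
      simp only [Finset.mem_filter, Finset.mem_univ, true_and] at hh
      obtain ⟨k, hk⟩ := hθ h
      have h2 : orderOf (θ h) ∣ p ^ k := orderOf_dvd_of_pow_eq_one hk
      have h3 : orderOf (θ h) ∣ orderOf h := orderOf_map_dvd θ h
      have h4 : Nat.Coprime (orderOf h) (p ^ k) := ((Nat.Prime.coprime_iff_not_dvd hp).2 hh).symm.pow_right k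
      have h5 : orderOf (θ h) = 1 := Nat.eq_one_of_dvd_coprimes h4 h3 h2
      rw [orderOf_eq_one_iff.1 h5, Units.val_one]
    rw [h1, Finset.sum_const, nsmul_eq_mul, mul_one]
    have h6 : (1 : H) ∈ Finset.univ.filter fun h : H => ¬ p ∣ orderOf h := by
      simp only [Finset.mem_filter, Finset.mem_univ, true_and, orderOf_one]
      exact hp.one_lt.ne' ∘ Nat.dvd_one.1
    exact_mod_cast (Finset.card_pos.2 ⟨1, h6⟩).ne'
  -- not in the principal `q`-block
  obtain ⟨M, hM⟩ := Cfsg.Agent.Blocks.ExistsModular.exists_isPModular hq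
  have : Fact q.Prime := ⟨hq⟩
  have hne := H133.PB.sum_regular_ne_zero hM ((hS ▸ hmem : χ ∈ B0 q G) M hM)
  apply hne
  rw [sum_reg H θ χ hχ q]
  have h0 : ∑ h : H with ¬ q ∣ orderOf h, ((θ h : ℂˣ) : ℂ) = 0 := by
    have h1 : ∑ h : H with ¬ q ∣ orderOf h, ((θ h : ℂˣ) : ℂ) = ∑ h : H with ¬ q ∣ orderOf h, ((θ (h * z) : ℂˣ) : ℂ) := by
      symm
      refine Finset.sum_equiv (Equiv.mulRight z) (fun h => ?_) (fun h _ => rfl)
      simp only [Finset.mem_filter, Finset.mem_univ, true_and, Equiv.coe_mulRight]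
      exact (hzq h).not.symm
    have h2 : ∑ h : H with ¬ q ∣ orderOf h, ((θ (h * z) : ℂˣ) : ℂ) =
        (∑ h : H with ¬ q ∣ orderOf h, ((θ h : ℂˣ) : ℂ)) * (θ z : ℂˣ) := by
      rw [Finset.sum_mul]
      refine Finset.sum_congr rfl fun h _ => ?_
      rw [map_mul, Units.val_mul]
    have h3 : (∑ h : H with ¬ q ∣ orderOf h, ((θ h : ℂˣ) : ℂ)) * (((θ z : ℂˣ) : ℂ) - 1) = 0 := by
      rw [mul_sub, mul_one, ← h2, ← h1, sub_self]
    rcases mul_eq_zero.1 h3 with h4 | h4
    · exact h4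
    · exfalso
      apply hz
      rw [sub_eq_zero] at h4
      exact Units.ext h4
  rw [h0, mul_zero, mul_zero]

end Cfsg.Agent.H809.PQ
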